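import Groth.Agent.GrpQ.H770.SliceStep
import Mathlib.AlgebraicGeometry.Morphisms.FinitePresentation
import Mathlib.Topology.NoetherianSpace

/-!
# Slicing a proper flat morphism by hypersurfaces until the fibre is finite

`exists_slice`: `s : R ⟶ U` proper, flat, locally of finite presentation, `g : R ⟶ P` with `R_x ⟶ P` affine and `P` with
enough hypersurfaces.  There is a finitely presented closed subscheme `H` of `P` such that `R ×_P H ⟶ U` is flat at
the points over `x` and has a finite nonempty fibre over `x`.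
-/

set_option autoImplicit false
universe u
open CategoryTheory CategoryTheory.Limits AlgebraicGeometry TopologicalSpace

namespace Groth.Agent.GrpQ.H770.SliceInd

open Groth.Agent.GrpQ.H770.SliceStep Groth.Agent.GrpQ.H770.SliceHyp

/-- A closed subscheme with locally finitely generated ideal is of finite presentation. -/
theorem lfp_subschemeι {X : Scheme.{u}} (I : X.IdealSheafData)
    (h : ∀ x : X, ∃ V : X.affineOpens, x ∈ V.1 ∧ (I.ideal V).FG) :
    LocallyOfFinitePresentation I.subschemeι := by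
  let ι := {V : X.affineOpens // (I.ideal V).FG}
  let 𝒰 : I.subscheme.OpenCover := Scheme.Cover.mkOfCovers ι
    (fun V => Spec (I.subschemeCover.X V.1)) (fun V => I.subschemeCover.f V.1) (by
      intro x
      obtain ⟨V, hsV, hV⟩ := h (I.subschemeι x)
      have h1 : x ∈ (I.subschemeCover.f V).opensRange := by
        rw [Scheme.IdealSheafData.opensRange_subschemeCover_map]
        exact hsV
      obtain ⟨y, hy⟩ := h1
      exact ⟨⟨V, hV⟩, y, hy⟩) (fun V => inferInstance)
  rw [IsZariskiLocalAtSource.iff_of_openCover (P := @LocallyOfFinitePresentation) 𝒰]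
  intro V
  let V' : ι := V
  change LocallyOfFinitePresentation (I.subschemeCover.f V'.1 ≫ I.subschemeι)
  have h2 : I.subschemeCover.f V'.1 ≫ I.subschemeι =
      Spec.map (CommRingCat.ofHom (Ideal.Quotient.mk (I.ideal V'.1))) ≫ V'.1.2.fromSpec :=
    Scheme.IdealSheafData.subschemeCover_map_subschemeι I V'.1
  rw [h2]
  have h3 : LocallyOfFinitePresentation
      (Spec.map (CommRingCat.ofHom (Ideal.Quotient.mk (I.ideal V'.1)))) := by
    rw [LocallyOfFinitePresentation.SpecMap_iff]
    exact RingHom.FinitePresentation.of_surjective _ Ideal.Quotient.mk_surjective (by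
      rw [CommRingCat.hom_ofHom, Ideal.mk_ker]
      exact V'.2)
  have h4 : LocallyOfFinitePresentation V'.1.2.fromSpec := inferInstance
  exact @locallyOfFinitePresentation_comp _ _ _ _ _ h3 h4

/-- The map on fibres over `y`. -/
theorem exists_isPullback_fiber {X' X S : Scheme.{u}} (f : X' ⟶ X) (b : X ⟶ S) (y : S) :
    ∃ m : (f ≫ b).fiber y ⟶ b.fiber y, IsPullback ((f ≫ b).fiberι y) m f (b.fiberι y) := by
  let m : (f ≫ b).fiber y ⟶ b.fiber y :=
    pullback.map (f ≫ b) (S.fromSpecResidueField y) b (S.fromSpecResidueField y) f (𝟙 _) (𝟙 _)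
      (Category.comp_id _) ((Category.comp_id _).trans (Category.id_comp _).symm)
  have hm1 : m ≫ b.fiberι y = (f ≫ b).fiberι y ≫ f := pullback.lift_fst _ _ _
  have hm2 : m ≫ b.fiberToSpecResidueField y = (f ≫ b).fiberToSpecResidueField y :=
    (pullback.lift_snd _ _ _).trans (Category.comp_id _)
  have h1 : IsPullback (b.fiberι y) (b.fiberToSpecResidueField y) b (S.fromSpecResidueField y) :=
    IsPullback.of_hasPullback _ _
  have h2 : IsPullback ((f ≫ b).fiberι y) ((f ≫ b).fiberToSpecResidueField y) (f ≫ b)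
      (S.fromSpecResidueField y) := IsPullback.of_hasPullback _ _
  rw [← hm2] at h2
  exact ⟨m, (IsPullback.of_right h2.flip hm1 h1.flip).flip⟩

theorem exists_slice {R U P : Scheme.{u}} (hP : HasHyp P) (s : R ⟶ U) [IsProper s]
    [LocallyOfFinitePresentation s] [Flat s] (g : R ⟶ P) (x : U)
    (haff : IsAffineHom (s.fiberι x ≫ g)) (hx : ∃ r, s r = x) :
    ∃ (H : Scheme.{u}) (h : H ⟶ P) (V : Scheme.{u}) (a : V ⟶ R) (b : V ⟶ H), IsPullback a b g h ∧
      IsClosedImmersion h ∧ LocallyOfFinitePresentation h ∧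
      (∀ v : V, (a ≫ s) v = x → ((a ≫ s).stalkMap v).hom.Flat) ∧ (∃ v : V, (a ≫ s) v = x) ∧
      ((a ≫ s) ⁻¹' {x}).Finite := by
  have hpr : IsProper (s.fiberToSpecResidueField x) := MorphismProperty.pullback_snd _ _ inferInstance
  have hN : IsLocallyNoetherian (s.fiber x) := LocallyOfFiniteType.isLocallyNoetherian (s.fiberToSpecResidueField x)
  have hC : CompactSpace (s.fiber x) := QuasiCompact.compactSpace_of_compactSpace (s.fiberToSpecResidueField x)
  have hNo : IsNoetherian (s.fiber x) := { }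
  have hNs : NoetherianSpace (s.fiber x) := inferInstance
  suffices key : ∀ (C : Closeds (s.fiber x)) (H : Scheme.{u}) (h : H ⟶ P) (V : Scheme.{u}) (a : V ⟶ R) (b : V ⟶ H),
      IsPullback a b g h → IsClosedImmersion h → LocallyOfFinitePresentation h →
      (∀ v : V, (a ≫ s) v = x → ((a ≫ s).stalkMap v).hom.Flat) → (∃ v : V, (a ≫ s) v = x) →
      (C : Set (s.fiber x)) = {z | s.fiberι x z ∈ Set.range a} →
      ∃ (H : Scheme.{u}) (h : H ⟶ P) (V : Scheme.{u}) (a : V ⟶ R) (b : V ⟶ H), IsPullback a b g h ∧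
        IsClosedImmersion h ∧ LocallyOfFinitePresentation h ∧
        (∀ v : V, (a ≫ s) v = x → ((a ≫ s).stalkMap v).hom.Flat) ∧ (∃ v : V, (a ≫ s) v = x) ∧
        ((a ≫ s) ⁻¹' {x}).Finite by
    obtain ⟨r, hr⟩ := hx
    refine key ⊤ P (𝟙 P) R (𝟙 R) g (IsPullback.of_vert_isIso ⟨by simp⟩).flip inferInstance inferInstance ?_ ?_ ?_
    · intro v _
      exact Flat.stalkMap _ _
    · exact ⟨r, by rw [Category.id_comp]; exact hr⟩
    · ext z
      simp
  intro C
  induction C using WellFoundedLT.induction with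
  | ind C ih =>
  intro H h V a b hpb hh hhl hflat hne hCa
  have ha1 : IsClosedImmersion a := MorphismProperty.of_isPullback hpb.flip inferInstance
  have ha2 : LocallyOfFinitePresentation a := MorphismProperty.of_isPullback hpb.flip inferInstance
  by_cases hfin : ((a ≫ s) ⁻¹' {x}).Finite
  · exact ⟨H, h, V, a, b, hpb, hh, hhl, hflat, hne, hfin⟩
  obtain ⟨m, hm⟩ := exists_isPullback_fiber a s x
  have hmc : IsClosedImmersion m := MorphismProperty.of_isPullback hm inferInstance
  have haff' : IsAffineHom ((a ≫ s).fiberι x ≫ a ≫ g) := by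
    rw [← Category.assoc, hm.w, Category.assoc]
    infer_instance
  obtain ⟨J, hJ, hJflat, ⟨v₁, hv₁, hv₁J⟩, ⟨v₂, hv₂, hv₂J⟩⟩ := step hP (a ≫ s) (a ≫ g) x haff' hflat hfin
  have hJl : LocallyOfFinitePresentation J.subschemeι := lfp_subschemeι J fun y => by
    obtain ⟨A, c, hA, hc⟩ := hJ y
    exact ⟨A, hA, hc ▸ Submodule.fg_span_singleton c⟩
  -- the new pullback square
  let i := pullback.fst (a ≫ g) J.subschemeι
  have hbg : a ≫ g = b ≫ h := hpb.w
  let H' := pullback h J.subschemeι
  let l : pullback (a ≫ g) J.subschemeι ⟶ H' :=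
    pullback.lift (i ≫ b) (pullback.snd _ _) (by rw [Category.assoc, ← hbg]; exact pullback.condition)
  have hl1 : l ≫ pullback.fst h J.subschemeι = i ≫ b := pullback.lift_fst _ _ _
  have hl2 : l ≫ pullback.snd h J.subschemeι = pullback.snd (a ≫ g) J.subschemeι := pullback.lift_snd _ _ _
  have hsq1 : IsPullback (pullback.snd h J.subschemeι) (pullback.fst h J.subschemeι) J.subschemeι h :=
    (IsPullback.of_hasPullback h J.subschemeι).flip
  have hsq2 : IsPullback (l ≫ pullback.snd h J.subschemeι) i J.subschemeι (b ≫ h) := by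
    rw [hl2, ← hbg]
    exact (IsPullback.of_hasPullback (a ≫ g) J.subschemeι).flip
  have hsq3 : IsPullback l i (pullback.fst h J.subschemeι) b := IsPullback.of_right hsq2 hl1 hsq1
  have hsq4 : IsPullback (i ≫ a) l g (pullback.fst h J.subschemeι ≫ h) := (hsq3.paste_vert hpb.flip).flip
  have hic : IsClosedImmersion i := inferInstance
  -- the new closed set
  let C' : Closeds (s.fiber x) := ⟨{z | s.fiberι x z ∈ Set.range (i ≫ a)},
    (i ≫ a).isClosedEmbedding.isClosed_range.preimage (s.fiberι x).continuous⟩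
  have hrange : ∀ v : V, v ∈ Set.range i ↔ (a ≫ g) v ∈ J.support := by
    intro v
    have h1 : Set.range i = (a ≫ g) ⁻¹' Set.range J.subschemeι := Scheme.Pullback.range_fst _ _
    rw [h1, Scheme.IdealSheafData.range_subschemeι]
    rfl
  have hfib : ∀ v : V, (a ≫ s) v = x → ∃ z : s.fiber x, s.fiberι x z = a v := by
    intro v hv
    have : a v ∈ s ⁻¹' {x} := by rw [← hv]; simp
    rw [← s.range_fiberι x] at this
    exact this
  have hlt : C' < C := by
    refine lt_of_le_of_ne ?_ ?_
    · intro z hz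
      obtain ⟨v, hv⟩ := hz
      have : z ∈ (C : Set (s.fiber x)) := by
        rw [hCa]
        exact ⟨i v, by rw [← Scheme.Hom.comp_apply, hv]⟩
      exact this
    · intro hCC
      obtain ⟨z, hz⟩ := hfib v₂ hv₂
      have h1 : z ∈ (C : Set (s.fiber x)) := by
        rw [hCa]
        exact ⟨v₂, hz.symm⟩
      rw [← hCC] at h1
      obtain ⟨v, hv⟩ := h1
      rw [hz, Scheme.Hom.comp_apply] at hv
      have h2 : i v = v₂ := a.isEmbedding.injective hv
      exact hv₂J ((hrange v₂).mp ⟨v, h2⟩)
  refine ih C' hlt H' (pullback.fst h J.subschemeι ≫ h) _ (i ≫ a) l hsq4 inferInstance inferInstance ?_ ?_ rfl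
  · intro v hv
    have h1 := hJflat v (by simpa [i] using hv)
    have aux : ∀ k : pullback (a ≫ g) J.subschemeι ⟶ U, k = i ≫ a ≫ s → (k.stalkMap v).hom.Flat := by
      rintro _ rfl
      exact h1
    exact aux _ (Category.assoc _ _ _)
  · obtain ⟨w, hw⟩ := (hrange v₁).mpr hv₁J
    refine ⟨w, ?_⟩
    rw [Category.assoc, Scheme.Hom.comp_apply, hw, hv₁]

end Groth.Agent.GrpQ.H770.SliceInd
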