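import Groth.Prelude.Def_Mor2
import Groth.Agent.S0386
import Mathlib.AlgebraicGeometry.ZariskisMainTheorem
import Mathlib.AlgebraicGeometry.Morphisms.UniversallyOpen

/-!
# A proper morphism flat along a finite nonempty fibre is finite locally free and surjective nearby
-/

set_option autoImplicit false
universe u
open CategoryTheory CategoryTheory.Limits AlgebraicGeometry TopologicalSpace

namespace Groth.Agent.GrpQ.H770.SliceOpen

variable {V U : Scheme.{u}}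

/-- A property stable under base change passes to restrictions over smaller opens of the target. -/
theorem restrict_of_le (P : MorphismProperty Scheme.{u}) [P.IsStableUnderBaseChange] (f : V ⟶ U)
    {W W' : U.Opens} (h : W ≤ W') (hf : P (f ∣_ W')) : P (f ∣_ W) := by
  have h1 : IsPullback (f ∣_ W') (f ⁻¹ᵁ W').ι W'.ι f := (isPullback_morphismRestrict f W')
  have h2 : IsPullback (f ∣_ W) (f ⁻¹ᵁ W).ι W.ι f := (isPullback_morphismRestrict f W)
  have h3 : U.homOfLE h ≫ W'.ι = W.ι := U.homOfLE_ι h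
  have hle : f ⁻¹ᵁ W ≤ f ⁻¹ᵁ W' := fun x hx => h hx
  have h4 : V.homOfLE hle ≫ (f ⁻¹ᵁ W').ι = (f ⁻¹ᵁ W).ι := V.homOfLE_ι hle
  rw [← h3, ← h4] at h2
  have h5 : f ∣_ W ≫ U.homOfLE h = V.homOfLE hle ≫ f ∣_ W' := by
    rw [← cancel_mono W'.ι, Category.assoc, Category.assoc, h3, morphismRestrict_ι, morphismRestrict_ι,
      ← Category.assoc, h4]
  have h6 : IsPullback (f ∣_ W) (V.homOfLE hle) (U.homOfLE h) (f ∣_ W') :=
    IsPullback.of_bot h2 h5 h1
  exact MorphismProperty.of_isPullback h6.flip hf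

theorem exists_nhd (f : V ⟶ U) [IsProper f] [LocallyOfFinitePresentation f] (x : U)
    (hflat : ∀ v : V, f v = x → (f.stalkMap v).hom.Flat) (hne : ∃ v : V, f v = x)
    (hfin : (f ⁻¹' {x}).Finite) :
    ∃ W : U.Opens, x ∈ W ∧ Mor2.IsFinLocFree (f ∣_ W) ∧ Surjective (f ∣_ W) := by
  obtain ⟨V₁, hxV₁, hV₁⟩ := exists_isFinite_morphismRestrict_of_finite_preimage_singleton (f := f) x hfin
  have hop : IsOpen {v : V | (f.stalkMap v).hom.Flat} := Groth.Agent.S0386.result f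
  let N : Set U := f '' {v : V | (f.stalkMap v).hom.Flat}ᶜ
  have hN : IsClosed N := f.isClosedMap _ hop.isClosed_compl
  let W₂ : U.Opens := V₁ ⊓ ⟨Nᶜ, hN.isOpen_compl⟩
  have hxW₂ : x ∈ W₂ := by
    refine ⟨hxV₁, ?_⟩
    rintro ⟨v, hv, hvx⟩
    exact hv (hflat v hvx)
  have hfin₂ : IsFinite (f ∣_ W₂) := restrict_of_le @IsFinite f inf_le_left hV₁
  have hflat₂ : Flat (f ∣_ W₂) := by
    apply Flat.of_stalkMap
    intro v
    have h1 : (f.stalkMap v.1).hom.Flat := by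
      by_contra hcon
      have : f v.1 ∈ N := ⟨v.1, hcon, rfl⟩
      exact v.2.2 this
    have h2 := RingHom.Flat.respectsIso.arrow_mk_iso_iff (morphismRestrictStalkMap f W₂ v)
    exact h2.mpr h1
  have hlfp₂ : LocallyOfFinitePresentation (f ∣_ W₂) := inferInstance
  let W : U.Opens := ⟨W₂.ι '' Set.range (f ∣_ W₂), W₂.ι.isOpenEmbedding.isOpenMap _
    (f ∣_ W₂).isOpenMap.isOpen_range⟩
  have hle : W ≤ W₂ := by
    rintro _ ⟨y, _, rfl⟩
    exact y.2
  refine ⟨W, ?_, ⟨restrict_of_le @IsFinite f hle hfin₂, restrict_of_le @Flat f hle hflat₂,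
    restrict_of_le @LocallyOfFinitePresentation f hle hlfp₂⟩, ?_⟩
  · obtain ⟨v, hv⟩ := hne
    have hvW : v ∈ f ⁻¹ᵁ W₂ := by change f v ∈ W₂; rw [hv]; exact hxW₂
    refine ⟨(f ∣_ W₂) ⟨v, hvW⟩, ⟨⟨v, hvW⟩, rfl⟩, ?_⟩
    rw [← Scheme.Hom.comp_apply, morphismRestrict_ι, Scheme.Hom.comp_apply]
    exact hv
  · constructor
    rintro ⟨y, hy⟩
    obtain ⟨z, ⟨v, rfl⟩, hz⟩ := hy
    have hv : f v.1 = y := by
      rw [← hz, ← Scheme.Hom.comp_apply, morphismRestrict_ι, Scheme.Hom.comp_apply]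
      rfl
    have hvW : v.1 ∈ f ⁻¹ᵁ W := by change f v.1 ∈ W; rw [hv]; exact ⟨_, ⟨v, rfl⟩, hz⟩
    refine ⟨⟨v.1, hvW⟩, ?_⟩
    apply Subtype.ext
    have h3 : W.ι ((f ∣_ W) ⟨v.1, hvW⟩) = f v.1 := by
      rw [← Scheme.Hom.comp_apply, morphismRestrict_ι, Scheme.Hom.comp_apply]
      rfl
    exact h3.trans hv

end Groth.Agent.GrpQ.H770.SliceOpen
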