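import Groth.Prelude.Def_Grpd
import Groth.Agent.GrpQ.H770.SliceInd
import Groth.Agent.GrpQ.H770.SliceOpen
import Groth.Agent.Dix.ProjProper
import Groth.Agent.Grpsch.Points

/-!
# Quasi-sections of groupoids with proper flat source map and quasi-projective object scheme

`exists_slice` (any base scheme): `G = (U, R, s, t, c)` with `s` proper, flat, of finite presentation, `j` quasi-finite
and `U` immersed in `P^n_S`.  Every point `x` of `U` has an open neighbourhood `W` and a finitely presented closed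
subscheme `U'` of `U` such that `R ×_{t,U} U' ⟶ U` (via `s`) is finite locally free and surjective over `W`.
-/

set_option autoImplicit false
universe u
open CategoryTheory CategoryTheory.Limits AlgebraicGeometry TopologicalSpace

namespace Groth.Agent.GrpQ.H770.SliceMain

open Groth.Agent.Dix.ProjProper

variable {S : Scheme.{u}} (G : Grpd.GroupoidScheme S) (n : ℕ) (e : G.U ⟶ CohB1.ProjSpaceOver n S)

/-- `R ⟶ P^n_U`, `r ↦ (e (t r), s r)` -/
noncomputable def gam : G.R ⟶ CohB1.ProjSpaceOver n G.U :=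
  pullback.lift (G.t ≫ e ≫ toZ n S) G.s (specULiftZIsTerminal.hom_ext _ _)

theorem gam_toZ : gam G n e ≫ toZ n G.U = G.t ≫ e ≫ toZ n S := pullback.lift_fst _ _ _

theorem gam_toBase : gam G n e ≫ CohB1.ProjSpaceOver.toBase n G.U = G.s := pullback.lift_snd _ _ _

/-- `U ×_S U ⟶ P^n_U` -/
noncomputable def kk : pullback G.pU G.pU ⟶ CohB1.ProjSpaceOver n G.U :=
  pullback.lift (pullback.fst G.pU G.pU ≫ e ≫ toZ n S) (pullback.snd G.pU G.pU) (specULiftZIsTerminal.hom_ext _ _)

theorem kk_toZ : kk G n e ≫ toZ n G.U = pullback.fst G.pU G.pU ≫ e ≫ toZ n S := pullback.lift_fst _ _ _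

theorem kk_toBase : kk G n e ≫ CohB1.ProjSpaceOver.toBase n G.U = pullback.snd G.pU G.pU :=
  pullback.lift_snd _ _ _

theorem hom_ext_projSpaceOver {T X : Scheme.{u}} {a b : X ⟶ CohB1.ProjSpaceOver n T}
    (h1 : a ≫ toZ n T = b ≫ toZ n T)
    (h2 : a ≫ CohB1.ProjSpaceOver.toBase n T = b ≫ CohB1.ProjSpaceOver.toBase n T) : a = b :=
  pullback.hom_ext h1 h2

theorem gam_eq : gam G n e = G.j ≫ kk G n e := by
  apply hom_ext_projSpaceOver
  · rw [gam_toZ, Category.assoc, kk_toZ, ← Category.assoc G.j, Groth.Agent.Grpsch.Points.j_fst]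
  · rw [gam_toBase, Category.assoc, kk_toBase, Groth.Agent.Grpsch.Points.j_snd]

theorem isPullback_kk (he : e ≫ CohB1.ProjSpaceOver.toBase n S = G.pU) :
    IsPullback (pullback.fst G.pU G.pU) (kk G n e) e (mapBase n G.pU) := by
  have h1 := isPullback_mapBase n G.pU
  have h2 : IsPullback (pullback.fst G.pU G.pU) (kk G n e ≫ CohB1.ProjSpaceOver.toBase n G.U)
      (e ≫ CohB1.ProjSpaceOver.toBase n S) G.pU := by
    rw [kk_toBase, he]
    exact IsPullback.of_hasPullback _ _
  have h3 : pullback.fst G.pU G.pU ≫ e = kk G n e ≫ mapBase n G.pU := by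
    apply hom_ext_projSpaceOver
    · rw [Category.assoc, Category.assoc, mapBase_toZ, kk_toZ]
    · rw [Category.assoc, Category.assoc, mapBase_toBase, he, ← Category.assoc, kk_toBase]
      exact pullback.condition
  exact IsPullback.of_bot h2 h3 h1

theorem isFinite_gam [IsProper G.s] [LocallyQuasiFinite G.j] [IsImmersion e]
    (he : e ≫ CohB1.ProjSpaceOver.toBase n S = G.pU) : IsFinite (gam G n e) := by
  have h1 : IsImmersion (kk G n e) := MorphismProperty.of_isPullback (isPullback_kk G n e he) inferInstance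
  have h2 : LocallyQuasiFinite (gam G n e) := by
    rw [gam_eq]
    infer_instance
  have h3 : IsProper (gam G n e ≫ CohB1.ProjSpaceOver.toBase n G.U) := by
    rw [gam_toBase]; infer_instance
  have h4 : IsProper (CohB1.ProjSpaceOver.toBase n G.U) := isProper_toBase n G.U
  have h5 : IsProper (gam G n e) := IsProper.of_comp _ (CohB1.ProjSpaceOver.toBase n G.U)
  exact IsFinite.of_isProper_of_locallyQuasiFinite _

theorem restrict_iso_comp {X X' Y : Scheme.{u}} (k : X ⟶ X') [IsIso k] (f : X' ⟶ Y) (W : Y.Opens)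
    (Q : MorphismProperty Scheme.{u}) [Q.RespectsIso] (hQ : Q (f ∣_ W)) : Q ((k ≫ f) ∣_ W) := by
  have h : Q (k ∣_ (f ⁻¹ᵁ W) ≫ f ∣_ W) := (Q.cancel_left_of_respectsIso _ _).mpr hQ
  rw [morphismRestrict_comp]
  exact h

theorem isAffineHom_toZ (T : Scheme.{u}) [IsAffine T] : IsAffineHom (toZ n T) :=
  MorphismProperty.of_isPullback (P := @IsAffineHom) (isPullback_toZ n T).flip inferInstance

theorem isAffineHom_fiber [IsProper G.s] [LocallyQuasiFinite G.j] [IsImmersion e]
    (he : e ≫ CohB1.ProjSpaceOver.toBase n S = G.pU) (x : G.U) :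
    IsAffineHom (G.s.fiberι x ≫ G.t ≫ e ≫ toZ n S) := by
  have hfin := isFinite_gam G n e he
  -- the map `R_x ⟶ P^n_{κ(x)}`
  let γx : G.s.fiber x ⟶ CohB1.ProjSpaceOver n (Spec (G.U.residueField x)) :=
    pullback.lift (G.s.fiberι x ≫ G.t ≫ e ≫ toZ n S) (G.s.fiberToSpecResidueField x)
      (specULiftZIsTerminal.hom_ext _ _)
  have hγ1 : γx ≫ toZ n _ = G.s.fiberι x ≫ G.t ≫ e ≫ toZ n S := pullback.lift_fst _ _ _
  have hγ2 : γx ≫ CohB1.ProjSpaceOver.toBase n _ = G.s.fiberToSpecResidueField x := pullback.lift_snd _ _ _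
  have h1 := isPullback_mapBase n (G.U.fromSpecResidueField x)
  have h2 : IsPullback (G.s.fiberι x) (γx ≫ CohB1.ProjSpaceOver.toBase n _)
      (gam G n e ≫ CohB1.ProjSpaceOver.toBase n G.U) (G.U.fromSpecResidueField x) := by
    rw [hγ2, gam_toBase]
    exact IsPullback.of_hasPullback _ _
  have h3 : G.s.fiberι x ≫ gam G n e = γx ≫ mapBase n (G.U.fromSpecResidueField x) := by
    apply hom_ext_projSpaceOver
    · rw [Category.assoc, Category.assoc, mapBase_toZ, gam_toZ, hγ1]
    · rw [Category.assoc, Category.assoc, mapBase_toBase, gam_toBase, ← Category.assoc, hγ2]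
      exact G.s.fiber_fac x
  have h4 : IsPullback (G.s.fiberι x) γx (gam G n e) (mapBase n (G.U.fromSpecResidueField x)) :=
    IsPullback.of_bot h2 h3 h1
  have h5 : IsFinite γx := MorphismProperty.of_isPullback h4 hfin
  have h6 : IsAffineHom (toZ n (Spec (G.U.residueField x))) := isAffineHom_toZ n _
  rw [← hγ1]
  infer_instance

/-- **Quasi-sections** (any base scheme). -/
theorem exists_slice [IsProper G.s] [Flat G.s] [LocallyOfFinitePresentation G.s] [LocallyQuasiFinite G.j]
    [IsImmersion e] (he : e ≫ CohB1.ProjSpaceOver.toBase n S = G.pU) (x : G.U) :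
    ∃ (U' : Scheme.{u}) (u : U' ⟶ G.U) (W : G.U.Opens), IsClosedImmersion u ∧ LocallyOfFinitePresentation u ∧
      x ∈ W ∧ Mor2.IsFinLocFree ((pullback.fst G.t u ≫ G.s) ∣_ W) ∧
      Surjective ((pullback.fst G.t u ≫ G.s) ∣_ W) := by
  obtain ⟨H, h, V, a, b, hpb, hh1, hh2, hflat, hne, hfin⟩ := SliceInd.exists_slice
    (SliceHyp.hasHyp_projSpace n (ULift.{u} ℤ)) G.s (G.t ≫ e ≫ toZ n S) x (isAffineHom_fiber G n e he x)
    ⟨G.e x, by rw [← Scheme.Hom.comp_apply, G.e_s]; rfl⟩
  have ha : IsClosedImmersion a := MorphismProperty.of_isPullback hpb.flip hh1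
  have ha2 : LocallyOfFinitePresentation a := MorphismProperty.of_isPullback hpb.flip hh2
  obtain ⟨W, hxW, hW1, hW2⟩ := SliceOpen.exists_nhd (a ≫ G.s) x hflat hne hfin
  let u : pullback (e ≫ toZ n S) h ⟶ G.U := pullback.fst _ _
  have hu : IsPullback u (pullback.snd (e ≫ toZ n S) h) (e ≫ toZ n S) h := IsPullback.of_hasPullback _ _
  let b' : V ⟶ pullback (e ≫ toZ n S) h := pullback.lift (a ≫ G.t) b (by rw [Category.assoc]; exact hpb.w)
  have hb1 : b' ≫ u = a ≫ G.t := pullback.lift_fst _ _ _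
  have hb2 : b' ≫ pullback.snd (e ≫ toZ n S) h = b := pullback.lift_snd _ _ _
  have hsq : IsPullback a b' G.t u := by
    have h1 : IsPullback (b' ≫ pullback.snd (e ≫ toZ n S) h) a h (G.t ≫ e ≫ toZ n S) := by
      rw [hb2]; exact hpb.flip
    exact (IsPullback.of_right h1 hb1 hu.flip).flip
  refine ⟨_, u, W, inferInstance, inferInstance, hxW, ?_⟩
  have hiso : pullback.fst G.t u ≫ G.s = hsq.isoPullback.inv ≫ (a ≫ G.s) := by
    rw [← Category.assoc, IsPullback.isoPullback_inv_fst]
  have key : ∀ (Q : MorphismProperty Scheme.{u}) [Q.RespectsIso], Q ((a ≫ G.s) ∣_ W) →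
      Q ((pullback.fst G.t u ≫ G.s) ∣_ W) := by
    intro Q _ hQ
    rw [hiso]
    exact restrict_iso_comp _ _ W Q hQ
  exact ⟨⟨key @IsFinite hW1.1, key @Flat hW1.2.1, key @LocallyOfFinitePresentation hW1.2.2⟩, key @Surjective hW2⟩

end Groth.Agent.GrpQ.H770.SliceMain
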