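import Groth.Agent.GrpQ.H767.GlobalB
import Groth.Agent.GrpQ.H768.LocQS
import Groth.Agent.GrpQ.H770.SliceMain
import Groth.Agent.Sga3.H775.SatFinite
import Groth.Agent.CalgB.AmpleProj

/-!
# Local quasi-sections of a groupoid over an arbitrary base

`locQS`: for a groupoid over an arbitrary base with proper flat finitely presented source map, quasi-finite `(t, s)`
and object scheme quasi-compactly immersed in `P^n_S`, there are local quasi-sections.
-/

set_option autoImplicit false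
universe u
open CategoryTheory CategoryTheory.Limits AlgebraicGeometry TopologicalSpace
open Groth.Agent.Sga3C.FlatPt

namespace Groth.Agent.GrpQ.H770.LocQS

variable {S : Scheme.{u}}

/-- A morphism which is flat over an open is flat at every point over it. -/
theorem isFlatAt_of_flat_restrict {X Y : Scheme.{u}} (f : X ⟶ Y) (V : Y.Opens) (h : Flat (f ∣_ V)) (x : X)
    (hx : f x ∈ V) : IsFlatAt f x := by
  obtain ⟨y, hy⟩ : ∃ y : ((f ⁻¹ᵁ V : X.Opens) : Scheme.{u}), (f ⁻¹ᵁ V).ι y = x := ⟨⟨x, hx⟩, rfl⟩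
  have h1 : IsFlatAt ((f ∣_ V) ≫ V.ι) y := isFlatAt_of_flat _ _
  rw [morphismRestrict_ι] at h1
  have h2 : IsFlatAt f ((f ⁻¹ᵁ V).ι y) := IsFlatAt.of_comp (isFlatAt_of_flat _ _) h1
  rw [hy] at h2
  exact h2

theorem flat_restrict_of_isFlatAt {X Y : Scheme.{u}} (f : X ⟶ Y) (W : Y.Opens)
    (h : ∀ x, f x ∈ W → IsFlatAt f x) : Flat (f ∣_ W) := by
  refine flat_of_forall_isFlatAt _ fun v => ?_
  have h1 : IsFlatAt f ((f ⁻¹ᵁ W).ι v) := h _ v.2
  exact IsFlatAt.of_isPullback (isPullback_morphismRestrict f W).flip v h1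

variable (G : Grpd.GroupoidScheme S)

open Groth.Agent.GrpQ.H767.QuasiSection Groth.Agent.Sga3.H775.SatFinite

/-- `sV` is flat over the saturation of an open over which it is flat. -/
theorem flat_sat {Z : Scheme.{u}} (g : Z ⟶ G.U) [Flat G.t] [LocallyOfFinitePresentation G.t] (V : G.U.Opens)
    (hV : Flat (sV G g ∣_ V)) : Flat (sV G g ∣_ sat G G.t.isOpenMap V) := by
  refine flat_restrict_of_isFlatAt _ _ ?_
  rintro v ⟨r, hr, hrv⟩
  have H := isPullback_transl G g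
  have H' := IsPullback.of_hasPullback (sV G g) G.s
  have hs : Flat G.s := (Grpsch.Points.s_iff_t G @Flat).mpr inferInstance
  have hp : Flat (transl G g) := MorphismProperty.of_isPullback H.flip inferInstance
  obtain ⟨z, rfl, rfl⟩ := Scheme.exists_preimage_of_isPullback H v r hrv.symm
  have h1 : (sV G g) (pullback.fst (sV G g) G.s z) ∈ V := by
    rw [← Scheme.Hom.comp_apply, H'.w, Scheme.Hom.comp_apply]
    exact hr
  have h2 : IsFlatAt (pullback.snd (sV G g) G.s) z :=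
    IsFlatAt.of_isPullback H' z (isFlatAt_of_flat_restrict _ V hV _ h1)
  have h3 : IsFlatAt (pullback.snd (sV G g) G.s ≫ G.t) z := h2.comp (isFlatAt_of_flat _ _)
  rw [← H.w] at h3
  exact IsFlatAt.of_comp (isFlatAt_of_flat _ z) h3

/-- A morphism is surjective over an open iff its range contains it. -/
theorem surjective_restrict_iff {X Y : Scheme.{u}} (f : X ⟶ Y) (W : Y.Opens) :
    Surjective (f ∣_ W) ↔ (W : Set Y) ⊆ Set.range f := by
  constructor
  · intro h y hy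
    obtain ⟨v, hv⟩ := h.surj ⟨y, hy⟩
    refine ⟨(f ⁻¹ᵁ W).ι v, ?_⟩
    rw [← Scheme.Hom.comp_apply, ← morphismRestrict_ι, Scheme.Hom.comp_apply, hv]
    rfl
  · intro h
    refine ⟨fun y => ?_⟩
    obtain ⟨w, hw⟩ := h y.2
    have h2 : w ∈ f ⁻¹ᵁ W := by
      change f w ∈ W
      rw [hw]; exact y.2
    obtain ⟨w', hw'⟩ : ∃ w' : ((f ⁻¹ᵁ W : X.Opens) : Scheme.{u}), (f ⁻¹ᵁ W).ι w' = w := ⟨⟨w, h2⟩, rfl⟩
    refine ⟨w', ?_⟩
    apply W.ι.isOpenEmbedding.injective
    rw [← Scheme.Hom.comp_apply, morphismRestrict_ι, Scheme.Hom.comp_apply, hw', hw]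
    rfl

/-- `sV` is surjective over the saturation of an open over which it is surjective. -/
theorem surjective_sat {Z : Scheme.{u}} (g : Z ⟶ G.U) [Flat G.t] [LocallyOfFinitePresentation G.t] (V : G.U.Opens)
    (hV : Surjective (sV G g ∣_ V)) : Surjective (sV G g ∣_ sat G G.t.isOpenMap V) := by
  rw [surjective_restrict_iff] at hV ⊢
  rintro x ⟨r, hr, hrx⟩
  exact (range_sV_inv G g x r hrx).mpr (hV hr)

/-- A finite set of points of a scheme `X` immersed quasi-compactly in `P^n_S` which lies over an affine open of `S`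
and in an open `O` of `X` lies in an affine open contained in `O`. -/
theorem exists_affine_of_finite {X : Scheme.{u}} {n : ℕ} (e : X ⟶ CohB1.ProjSpaceOver n S) [IsImmersion e]
    [QuasiCompact e] (V : S.Opens) (hV : IsAffineOpen V) (T : Set X) (hT : T.Finite)
    (hTV : ∀ x ∈ T, (e ≫ CohB1.ProjSpaceOver.toBase n S) x ∈ V) (O : X.Opens) (hTO : T ⊆ O) :
    ∃ A : X.Opens, IsAffineOpen A ∧ T ⊆ A ∧ A ≤ O := by
  obtain ⟨E, hE⟩ := Groth.Agent.CalgB.AmpleProj.exists_isRelAmple_projSpaceOver n S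
  have h1 := hE.2 ⟨V, hV⟩
  have h2 := Groth.Agent.CalgB.AmpleBase.isAmple_pullback_of_isImmersion
    (e ∣_ (CohB1.ProjSpaceOver.toBase n S ⁻¹ᵁ V)) h1
  set P := e ⁻¹ᵁ (CohB1.ProjSpaceOver.toBase n S ⁻¹ᵁ V) with hP
  have hTP : ∀ x ∈ T, x ∈ P := fun x hx => by
    have := hTV x hx
    rw [Scheme.Hom.comp_apply] at this
    exact this
  obtain ⟨D, A, -, hA, hTA, hAO⟩ := Groth.Agent.GrpQ.H768.Hyper.exists_hyper h2 (P.ι ⁻¹' T)
    (hT.preimage P.ι.isOpenEmbedding.injective.injOn) (P.ι ⁻¹ᵁ O) (fun x hx => hTO hx)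
  refine ⟨P.ι ''ᵁ A, hA.image_of_isOpenImmersion _, ?_, ?_⟩
  · intro x hx
    exact ⟨⟨x, hTP x hx⟩, hTA hx, rfl⟩
  · rintro _ ⟨x, hx, rfl⟩
    exact hAO hx

/-- Local quasi-sections over an arbitrary base. -/
theorem locQS (n : ℕ) (e : G.U ⟶ CohB1.ProjSpaceOver n S) [IsImmersion e] [QuasiCompact e]
    (he : e ≫ CohB1.ProjSpaceOver.toBase n S = G.pU)
    [IsProper G.s] [Flat G.s] [LocallyOfFinitePresentation G.s] [LocallyQuasiFinite G.j] :
    Groth.Agent.GrpQ.H767.Global.LocQS G := by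
  intro x
  have hf : Flat G.t := (Grpsch.Points.s_iff_t G @Flat).mp inferInstance
  have hlfp : LocallyOfFinitePresentation G.t :=
    (Grpsch.Points.s_iff_t G @LocallyOfFinitePresentation).mp inferInstance
  obtain ⟨Z, z, W₀, hz, hz', hxW₀, h1, h2⟩ := Groth.Agent.GrpQ.H770.SliceMain.exists_slice G n e he x
  let W : G.U.Opens := sat G G.t.isOpenMap W₀
  have hfin : IsFinite (sV G z ∣_ W) := isFinite_sat G z W₀ h1.1
  refine ⟨W, Z, z, le_sat G _ _ hxW₀, sat_inv G _ _, inferInstance, ⟨hfin, flat_sat G z W₀ h1.2.1, ?_⟩,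
    surjective_sat G z W₀ h2, fun E hEW hE => ?_⟩
  · have : LocallyOfFinitePresentation (pullback.fst G.t z ≫ G.s) := inferInstance
    infer_instance
  · rcases E.eq_empty_or_nonempty with rfl | ⟨y, hy⟩
    · exact ⟨⊥, isAffineOpen_bot _, Set.empty_subset _, bot_le⟩
    have hEfin : E.Finite := by
      have h3 : ((sV G z) ⁻¹' {z y}).Finite := by
        have h4 := Scheme.Hom.finite_preimage_singleton (sV G z ∣_ W) ⟨z y, hEW y hy⟩
        refine (h4.image (sV G z ⁻¹ᵁ W).ι).subset fun v hv => ?_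
        have hv' : v ∈ sV G z ⁻¹ᵁ W := by
          change sV G z v ∈ W
          rw [hv]; exact hEW y hy
        obtain ⟨v', hv'⟩ : ∃ w' : ((sV G z ⁻¹ᵁ W : Scheme.Opens _) : Scheme.{u}), (sV G z ⁻¹ᵁ W).ι w' = v :=
          ⟨⟨v, hv'⟩, rfl⟩
        refine ⟨v', ?_, hv'⟩
        apply W.ι.isOpenEmbedding.injective
        rw [← Scheme.Hom.comp_apply, morphismRestrict_ι, Scheme.Hom.comp_apply, hv', hv]
        rfl
      refine (h3.image (pullback.snd G.t z)).subset fun x hx => ?_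
      obtain ⟨r, hr1, hr2⟩ := hE x hx y hy
      obtain ⟨v, hv1, hv2⟩ := Scheme.Pullback.exists_preimage_pullback (f := G.t) (g := z) r x hr1
      refine ⟨v, ?_, hv2⟩
      change (pullback.fst G.t z ≫ G.s) v = z y
      rw [Scheme.Hom.comp_apply, hv1]
      exact hr2
    obtain ⟨V, hV, hyV⟩ : ∃ V : S.Opens, IsAffineOpen V ∧ G.pU (z y) ∈ V := by
      obtain ⟨V, hV, hyV, -⟩ := exists_isAffineOpen_mem_and_subset (X := S) (x := G.pU (z y)) (U := ⊤) trivial
      exact ⟨V, hV, hyV⟩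
    obtain ⟨A, hA, hEA, hAW⟩ := exists_affine_of_finite e V hV (z '' E) (hEfin.image _) (by
      rintro _ ⟨x, hx, rfl⟩
      rw [he]
      obtain ⟨r, hr1, hr2⟩ := hE x hx y hy
      rw [← hr1, ← Scheme.Hom.comp_apply, G.t_over, ← G.s_over, Scheme.Hom.comp_apply, hr2]
      exact hyV) W (by rintro _ ⟨x, hx, rfl⟩; exact hEW x hx)
    exact ⟨z ⁻¹ᵁ A, hA.preimage z, fun x hx => hEA ⟨x, hx, rfl⟩, fun x hx => hAW hx⟩

end Groth.Agent.GrpQ.H770.LocQS
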