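import Mathlib.AlgebraicGeometry.Noetherian
import Mathlib.AlgebraicGeometry.Morphisms.Preimmersion
import Mathlib.RingTheory.Ideal.AssociatedPrime.Finiteness
import Mathlib.RingTheory.Ideal.AssociatedPrime.Localization

/-!
# The finitely many associated points of a Noetherian scheme

`exists_finite_ass`: a Noetherian scheme `T` has a finite set `A` of points such that a function which is a
zero divisor at some point vanishes at some point of `A` (of its domain of definition).
-/

set_option autoImplicit false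
universe u
open CategoryTheory CategoryTheory.Limits AlgebraicGeometry TopologicalSpace

namespace Groth.Agent.GrpQ.H770.SliceAss

/-- the points of an affine open corresponding to the associated primes of its ring of functions -/
def assV {T : Scheme.{u}} (V : T.affineOpens) : Set T :=
  V.2.fromSpec '' {p : PrimeSpectrum Γ(T, V.1) | p.asIdeal ∈ associatedPrimes Γ(T, V.1) Γ(T, V.1)}

theorem finite_assV {T : Scheme.{u}} [IsLocallyNoetherian T] (V : T.affineOpens) : (assV V).Finite := by
  have : IsNoetherianRing Γ(T, V.1) := IsLocallyNoetherian.component_noetherian V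
  refine Set.Finite.image _ ?_
  refine Set.Finite.of_finite_image (f := PrimeSpectrum.asIdeal) ?_
    (fun x _ y _ h => PrimeSpectrum.ext h)
  refine (associatedPrimes.finite Γ(T, V.1) Γ(T, V.1)).subset ?_
  rintro _ ⟨p, hp, rfl⟩
  exact hp

/-- If the germ of `c` at `t` lies in the prime `q` of the stalk, then `c` vanishes at the corresponding point. -/
theorem notMem_basicOpen_of_germ_mem {T : Scheme.{u}} (O : T.Opens) (c : Γ(T, O)) (t : T) (ht : t ∈ O)
    (q : PrimeSpectrum (T.presheaf.stalk t)) (hq : T.presheaf.germ O t ht c ∈ q.asIdeal) :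
    T.fromSpecStalk t q ∈ O ∧ T.fromSpecStalk t q ∉ T.basicOpen c := by
  have hsp : T.fromSpecStalk t q ⤳ t := by
    have := T.range_fromSpecStalk (x := t)
    have h1 : T.fromSpecStalk t q ∈ Set.range (T.fromSpecStalk t) := ⟨q, rfl⟩
    rw [this] at h1
    exact h1
  have hwO : T.fromSpecStalk t q ∈ O := hsp.mem_open O.2 ht
  refine ⟨hwO, fun hw => ?_⟩
  rw [Scheme.mem_basicOpen T c _ hwO] at hw
  have h2 : Spec.map (T.presheaf.stalkSpecializes hsp) (IsLocalRing.closedPoint _) = q := by
    apply (T.fromSpecStalk t).isEmbedding.injective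
    rw [← Scheme.Hom.comp_apply, Scheme.SpecMap_stalkSpecializes_fromSpecStalk,
      Scheme.fromSpecStalk_closedPoint]
  have h3 : (T.presheaf.stalkSpecializes hsp).hom (T.presheaf.germ O t ht c) ∈
      (IsLocalRing.maximalIdeal (T.presheaf.stalk (T.fromSpecStalk t q))) := by
    rw [← h2] at hq
    exact hq
  have h4 : (T.presheaf.stalkSpecializes hsp).hom (T.presheaf.germ O t ht c) =
      T.presheaf.germ O _ hwO c := TopCat.Presheaf.germ_stalkSpecializes_apply _ _ _ _
  rw [h4] at h3
  exact h3 hw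

theorem exists_mem_assV {T : Scheme.{u}} [IsLocallyNoetherian T] (V : T.affineOpens) (O : T.Opens) (c : Γ(T, O))
    (t : T) (htV : t ∈ V.1) (ht : t ∈ O)
    (hc : T.presheaf.germ O t ht c ∉ nonZeroDivisors (T.presheaf.stalk t)) :
    ∃ w ∈ assV V, w ∈ O ∧ w ∉ T.basicOpen c := by
  have hN : IsNoetherianRing Γ(T, V.1) := IsLocallyNoetherian.component_noetherian V
  let alg : Algebra Γ(T, V.1) (T.presheaf.stalk t) := T.presheaf.algebra_section_stalk ⟨t, htV⟩
  have hloc : IsLocalization.AtPrime (T.presheaf.stalk t) (V.2.primeIdealOf ⟨t, htV⟩).asIdeal :=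
    V.2.isLocalization_stalk ⟨t, htV⟩
  -- find an associated prime of the stalk containing the germ
  have hNs : IsNoetherianRing (T.presheaf.stalk t) := inferInstance
  have h1 : T.presheaf.germ O t ht c ∈ ⋃ p ∈ associatedPrimes (T.presheaf.stalk t) (T.presheaf.stalk t),
      (p : Set (T.presheaf.stalk t)) := by
    rw [biUnion_associatedPrimes_eq_compl_nonZeroDivisors]
    exact hc
  obtain ⟨q, hq, hcq⟩ := Set.mem_iUnion₂.mp h1
  have hqp : q.IsPrime := hq.1
  -- contract it to `Γ(V)`
  have h2 : q.comap (algebraMap Γ(T, V.1) (T.presheaf.stalk t)) ∈ associatedPrimes Γ(T, V.1) Γ(T, V.1) :=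
    Module.associatedPrimes.comap_mem_associatedPrimes_of_mem_associatedPrimes_of_isLocalizedModule_of_fg
      (V.2.primeIdealOf ⟨t, htV⟩).asIdeal.primeCompl
      (Algebra.linearMap Γ(T, V.1) (T.presheaf.stalk t)) q hq (IsNoetherian.noetherian _)
  have h3 := notMem_basicOpen_of_germ_mem O c t ht ⟨q, hqp⟩ hcq
  refine ⟨T.fromSpecStalk t ⟨q, hqp⟩, ?_, h3.1, h3.2⟩
  refine ⟨PrimeSpectrum.comap (algebraMap Γ(T, V.1) (T.presheaf.stalk t)) ⟨q, hqp⟩, h2, ?_⟩
  rw [← V.2.fromSpecStalk_eq_fromSpecStalk htV, IsAffineOpen.fromSpecStalk, Scheme.Hom.comp_apply]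
  rfl

/-- A Noetherian scheme has a finite set of points detecting zero divisors. -/
theorem exists_finite_ass (T : Scheme.{u}) [IsNoetherian T] :
    ∃ A : Set T, A.Finite ∧ ∀ (O : T.Opens) (c : Γ(T, O)) (t : T) (ht : t ∈ O),
      T.presheaf.germ O t ht c ∉ nonZeroDivisors (T.presheaf.stalk t) →
        ∃ w ∈ A, w ∈ O ∧ w ∉ T.basicOpen c := by
  obtain ⟨s, hs, hcov⟩ := (isCompact_and_isOpen_iff_finite_and_eq_biUnion_affineOpens (X := T) (U := Set.univ)).mp
    ⟨isCompact_univ, isOpen_univ⟩
  refine ⟨⋃ V ∈ s, assV V, hs.biUnion fun V _ => finite_assV V, fun O c t ht hc => ?_⟩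
  have h1 : t ∈ ⋃ V ∈ s, ((V : T.Opens) : Set T) := hcov ▸ Set.mem_univ t
  obtain ⟨V, hV, htV⟩ := Set.mem_iUnion₂.mp h1
  obtain ⟨w, hw, h⟩ := exists_mem_assV V O c t htV ht hc
  exact ⟨w, Set.mem_iUnion₂.mpr ⟨V, hV, hw⟩, h⟩

end Groth.Agent.GrpQ.H770.SliceAss
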