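import Groth.Agent.Flat2G.SliceSch
import Groth.Agent.Divis.CartierStalk
import Groth.Agent.CycB.FiberStalk

/-!
# Flatness of a principal slice at a point, over any base

`flat_slice`: `f : V ⟶ U` locally of finite presentation, flat at `i v'`, where `i : V' ⟶ V` is a closed immersion
whose ideal is generated near `i v'` by one function which is regular on the fibre.  Then `i ≫ f` is flat at `v'`.
-/

set_option autoImplicit false
universe u
open CategoryTheory CategoryTheory.Limits AlgebraicGeometry TopologicalSpace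

namespace Groth.Agent.GrpQ.H770.SliceFlat

open Groth.Agent.Flat2G.SliceSeq Groth.Agent.Flat2G.SliceSch Groth.Agent.Divis.CartierBasic

/-- flatness over a stalk can be tested over an affine open -/
theorem flat_stalk_quotient {V U : Scheme.{u}} (f : V ⟶ U) [LocallyOfFinitePresentation f] (v : V)
    (hflat : (f.stalkMap v).hom.Flat) (c : V.presheaf.stalk v)
    (hm : c ∈ IsLocalRing.maximalIdeal (V.presheaf.stalk v))
    (hreg : ∀ b, c * b ∈ CycB.FiberStalk.fibIdeal f v → b ∈ CycB.FiberStalk.fibIdeal f v) :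
    ((Ideal.Quotient.mk (Ideal.span {c})).comp (f.stalkMap v).hom).Flat := by
  obtain ⟨V₀, hV₀, U₀, hU₀, hx, e, hs', hgerm, hsl⟩ := exists_sliced f v hflat [c]
    (by intro h hh; rw [List.mem_singleton] at hh; rw [hh]; exact hm) ⟨hreg, trivial⟩
  let a1 : Algebra Γ(U, V₀) Γ(V, U₀) := (f.appLE V₀ U₀ e).hom.toAlgebra
  let a2 : Algebra Γ(U, V₀) (U.presheaf.stalk (f v)) := U.presheaf.algebra_section_stalk ⟨f v, e hx⟩
  let a3 : Algebra Γ(V, U₀) (V.presheaf.stalk v) := V.presheaf.algebra_section_stalk ⟨v, hx⟩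
  let a4 : Algebra (U.presheaf.stalk (f v)) (V.presheaf.stalk v) := (f.stalkMap v).hom.toAlgebra
  let a5 : Algebra Γ(U, V₀) (V.presheaf.stalk v) :=
    ((algebraMap Γ(V, U₀) (V.presheaf.stalk v)).comp (algebraMap Γ(U, V₀) Γ(V, U₀))).toAlgebra
  have t1 : IsScalarTower Γ(U, V₀) Γ(V, U₀) (V.presheaf.stalk v) := IsScalarTower.of_algebraMap_eq' rfl
  have t2 : IsScalarTower Γ(U, V₀) (U.presheaf.stalk (f v)) (V.presheaf.stalk v) :=
    IsScalarTower.of_algebraMap_eq fun r => by
      change V.presheaf.germ U₀ v hx (f.appLE V₀ U₀ e r) = f.stalkMap v (U.presheaf.germ V₀ (f v) (e hx) r)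
      rw [Scheme.Hom.germ_stalkMap_apply, Scheme.Hom.appLE, CommRingCat.comp_apply,
        V.presheaf.germ_res_apply]
  have l1 : IsLocalization.AtPrime (U.presheaf.stalk (f v)) (hV₀.primeIdealOf ⟨f v, e hx⟩).asIdeal :=
    hV₀.isLocalization_stalk ⟨f v, e hx⟩
  have l2 : IsLocalization.AtPrime (V.presheaf.stalk v) (hU₀.primeIdealOf ⟨v, hx⟩).asIdeal :=
    hU₀.isLocalization_stalk ⟨v, hx⟩
  have hf : Module.Flat Γ(V, U₀) (V.presheaf.stalk v) :=
    IsLocalization.flat _ (hU₀.primeIdealOf ⟨v, hx⟩).asIdeal.primeCompl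
  have h1 : Sliced Γ(U, V₀) ((⊥ : Ideal Γ(V, U₀)).map (algebraMap Γ(V, U₀) (V.presheaf.stalk v)))
      (hs'.map (algebraMap Γ(V, U₀) (V.presheaf.stalk v))) := Sliced.of_flat hsl
  have h2 := h1.flat_quot
  have h3 : (⊥ : Ideal Γ(V, U₀)).map (algebraMap Γ(V, U₀) (V.presheaf.stalk v)) ⊔
      Ideal.ofList (hs'.map (algebraMap Γ(V, U₀) (V.presheaf.stalk v))) = Ideal.span {c} := by
    rw [Ideal.map_bot, bot_sup_eq]
    have : hs'.map (algebraMap Γ(V, U₀) (V.presheaf.stalk v)) = [c] := hgerm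
    rw [this, Ideal.ofList_singleton]
  rw [h3] at h2
  have h4 : Module.Flat (U.presheaf.stalk (f v)) (V.presheaf.stalk v ⧸ Ideal.span {c}) := by
    rw [Module.flat_iff_of_isLocalization (R := Γ(U, V₀)) (U.presheaf.stalk (f v))
      (hV₀.primeIdealOf ⟨f v, e hx⟩).asIdeal.primeCompl]
    exact h2
  have h5 : (Ideal.Quotient.mk (Ideal.span {c})).comp (f.stalkMap v).hom =
    algebraMap (U.presheaf.stalk (f v)) (V.presheaf.stalk v ⧸ Ideal.span {c}) := rfl
  rw [h5, RingHom.flat_algebraMap_iff]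
  exact h4

theorem flat_slice {V V' U P : Scheme.{u}} (f : V ⟶ U) [LocallyOfFinitePresentation f] (g : V ⟶ P)
    (J : P.IdealSheafData) (i : V' ⟶ V) [IsClosedImmersion i] (hi : i.ker = J.comap g) (v' : V')
    (hflat : (f.stalkMap (i v')).hom.Flat) (A : P.affineOpens) (c : Γ(P, A.1)) (hA : g (i v') ∈ A.1)
    (hc : J.ideal A = Ideal.span {c})
    (hreg : ∀ b, g.stalkMap (i v') (P.presheaf.germ A.1 _ hA c) * b ∈ CycB.FiberStalk.fibIdeal f (i v') →
      b ∈ CycB.FiberStalk.fibIdeal f (i v')) :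
    ((i ≫ f).stalkMap v').hom.Flat := by
  have hker : RingHom.ker (i.stalkMap v').hom =
      Ideal.span {g.stalkMap (i v') (P.presheaf.germ A.1 _ hA c)} := by
    rw [Divis.CartierStalk.ker_stalkMap, hi, Divis.CartierStalk.stalkIdeal_comap,
      stalkIdeal_eq J A hA, hc, Ideal.map_span, Set.image_singleton, Ideal.map_span, Set.image_singleton]
  have hm : g.stalkMap (i v') (P.presheaf.germ A.1 _ hA c) ∈
      IsLocalRing.maximalIdeal (V.presheaf.stalk (i v')) := by
    have h1 : RingHom.ker (i.stalkMap v').hom ≤ IsLocalRing.maximalIdeal _ :=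
      IsLocalRing.le_maximalIdeal (RingHom.ker_ne_top _)
    rw [hker] at h1
    exact h1 (Ideal.mem_span_singleton_self _)
  have h2 := flat_stalk_quotient f (i v') hflat _ hm hreg
  let ec : (V.presheaf.stalk (i v') ⧸ Ideal.span {g.stalkMap (i v') (P.presheaf.germ A.1 _ hA c)}) ≃+*
      V'.presheaf.stalk v' :=
    (Ideal.quotEquivOfEq hker.symm).trans (RingHom.quotientKerEquivOfSurjective (i.stalkMap_surjective v'))
  have h3 : ((i ≫ f).stalkMap v').hom = (ec : _ →+* _).comp
      ((Ideal.Quotient.mk (Ideal.span {g.stalkMap (i v') (P.presheaf.germ A.1 _ hA c)})).comp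
        (f.stalkMap (i v')).hom) := by
    rw [Scheme.Hom.stalkMap_comp]
    rfl
  rw [h3]
  exact RingHom.Flat.comp h2 (RingHom.Flat.of_bijective ec.bijective)

end Groth.Agent.GrpQ.H770.SliceFlat
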