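import Groth.Agent.Pi1C.ZeroScheme
import Groth.Agent.S2324
import Groth.Agent.CalgB.AmpleProj

/-!
# Hypersurfaces avoiding finitely many points

`HasHyp P`: every finite set of points of `P` is contained in an affine open which is the complement of a
locally principal closed subscheme.  `hasHyp_projSpace`: this holds for projective space.
-/

set_option autoImplicit false
universe u
open CategoryTheory CategoryTheory.Limits AlgebraicGeometry TopologicalSpace

namespace Groth.Agent.GrpQ.H770.SliceHyp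

/-- Every finite set of points is contained in an affine open which is the complement of a locally principal
closed subscheme. -/
def HasHyp (P : Scheme.{u}) : Prop :=
  ∀ Z : Set P, Z.Finite → ∃ J : P.IdealSheafData,
    (∀ x : P, ∃ (A : P.affineOpens) (c : Γ(P, A.1)), x ∈ A.1 ∧ J.ideal A = Ideal.span {c}) ∧
    ∃ D : P.Opens, IsAffineOpen D ∧ Z ⊆ (D : Set P) ∧ ∀ x : P, x ∈ J.support ↔ x ∉ D

theorem hasHyp_of_isAmple (P : Scheme.{u}) [CompactSpace P] [P.IsSeparated] (L : P.Modules)
    (hL : CohB1.IsAmple L) : HasHyp P := by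
  intro Z hZ
  obtain ⟨n, s, hs1, -, hs3⟩ := Groth.Agent.S2324.result P L hL Z hZ ⊤ (fun _ _ => trivial)
  have hinv : PicF.IsInvertible (CohB1.tensorPow L (n + 1)) :=
    Groth.Agent.Fdesc.LocGen.isInvertible_tensorPow hL.1 _
  refine ⟨PicF2.zeroScheme (CohB1.tensorPow L (n + 1)) s, fun x => ?_, CohB1.genLocus _ s, hs3, hs1,
    fun x => Groth.Agent.Pi1C.ZeroScheme.mem_support_iff s hinv x⟩
  obtain ⟨U, hU, hxU, -, e, he⟩ :=
    Groth.Agent.Pi1C.ZeroScheme.exists_affine_isGen hinv ⊤ x trivial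
  obtain ⟨c, hc⟩ := he.exists_eq (Groth.Agent.Fdesc.LocGen.sec s U)
  exact ⟨⟨U, hU⟩, c, hxU, Groth.Agent.Pi1C.ZeroScheme.ideal_eq_span s hinv ⟨U, hU⟩ he hc⟩

theorem hasHyp_projSpace (n : ℕ) (R : Type u) [CommRing R] : HasHyp (CohB1.ProjSpace n R) := by
  obtain ⟨L, hL⟩ := Groth.Agent.CalgB.AmpleProj.exists_isAmple_projSpace n R
  have h1 : IsProper (CohB1.ProjSpace.toSpec n R) := Groth.Agent.Dix.ProjProper.isProper_toSpec n R
  have h2 : CompactSpace (CohB1.ProjSpace n R) := hL.2.1
  have h3 : (CohB1.ProjSpace n R).IsSeparated := by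
    rw [Scheme.isSeparated_iff, ← terminal.comp_from (CohB1.ProjSpace.toSpec n R)]
    infer_instance
  exact hasHyp_of_isAmple _ L hL

end Groth.Agent.GrpQ.H770.SliceHyp
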