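import Groth.Agent.GrpQ.H770.SliceAss
import Groth.Agent.GrpQ.H770.SliceFlat
import Groth.Agent.GrpQ.H770.SliceHyp
import Mathlib.AlgebraicGeometry.ZariskisMainTheorem

/-!
# One slicing step

`step`: `f : V ⟶ U` proper and locally of finite presentation, flat at the points of an infinite fibre over `x`, and
`g : V ⟶ P` with `V_x ⟶ P` affine, `P` with enough hypersurfaces.  There is a locally principal closed subscheme
`Z(J)` of `P` such that `V ×_P Z(J) ⟶ U` is flat at the points over `x`, and `Z(J)` meets but does not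
contain the image of `V_x`.
-/

set_option autoImplicit false
universe u
open CategoryTheory CategoryTheory.Limits AlgebraicGeometry TopologicalSpace

namespace Groth.Agent.GrpQ.H770.SliceStep

open Groth.Agent.GrpQ.H770.SliceAss Groth.Agent.GrpQ.H770.SliceFlat Groth.Agent.GrpQ.H770.SliceHyp

variable {P V U : Scheme.{u}}

theorem notMem_support_iff (J : P.IdealSheafData) {A : P.affineOpens} {c : Γ(P, A.1)}
    (hc : J.ideal A = Ideal.span {c}) {y : P} (hy : y ∈ A.1) : y ∉ J.support ↔ y ∈ P.basicOpen c := by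
  rw [Scheme.IdealSheafData.mem_support_iff_of_mem (U := A) hy, hc, Scheme.zeroLocus_span,
    Scheme.mem_zeroLocus_iff]
  simp

/-- regularity on the fibre of a function not vanishing at the associated points of the fibre -/
theorem regular_at (f : V ⟶ U) (g : V ⟶ P) (x : U) (A : P.affineOpens) (c : Γ(P, A.1)) (z : f.fiber x)
    (hA : g (f.fiberι x z) ∈ A.1)
    (hz : (f.fiber x).presheaf.germ ((f.fiberι x ≫ g) ⁻¹ᵁ A.1) z hA ((f.fiberι x ≫ g).app A.1 c) ∈
      nonZeroDivisors ((f.fiber x).presheaf.stalk z)) :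
    ∀ b, g.stalkMap (f.fiberι x z) (P.presheaf.germ A.1 _ hA c) * b ∈ CycB.FiberStalk.fibIdeal f (f.fiberι x z) →
      b ∈ CycB.FiberStalk.fibIdeal f (f.fiberι x z) := by
  intro b hb
  rw [← CycB.FiberStalk.ker_stalkMap_fiberι, RingHom.mem_ker] at hb ⊢
  rw [map_mul] at hb
  have h1 : ((f.fiberι x).stalkMap z).hom (g.stalkMap (f.fiberι x z) (P.presheaf.germ A.1 _ hA c)) =
      (f.fiber x).presheaf.germ ((f.fiberι x ≫ g) ⁻¹ᵁ A.1) z hA ((f.fiberι x ≫ g).app A.1 c) := by
    rw [← Scheme.Hom.germ_stalkMap_apply, Scheme.Hom.stalkMap_comp]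
    rfl
  rw [h1] at hb
  exact (mul_left_mem_nonZeroDivisors_eq_zero_iff hz).mp hb

/-- a scheme affine over a field and proper over it is finite as a set -/
theorem finite_preimage_of_isAffine (f : V ⟶ U) [IsProper f] (x : U) [IsAffine (f.fiber x)] :
    (f ⁻¹' {x}).Finite := by
  have h1 : IsProper (f.fiberToSpecResidueField x) := MorphismProperty.pullback_snd _ _ inferInstance
  have h2 : IsAffineHom (f.fiberToSpecResidueField x) := isAffineHom_of_isAffine _
  have h3 : IsFinite (f.fiberToSpecResidueField x) := IsFinite.iff_isProper_and_isAffineHom.mpr ⟨h1, h2⟩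
  have h4 : ((f.fiberToSpecResidueField x) ⁻¹' {IsLocalRing.closedPoint _}).Finite :=
    (f.fiberToSpecResidueField x).finite_preimage_singleton _
  have h5 : (f.fiberToSpecResidueField x) ⁻¹' {IsLocalRing.closedPoint _} = Set.univ := by
    ext z
    simp only [Set.mem_preimage, Set.mem_univ, iff_true]
    exact Subsingleton.elim _ _
  rw [h5] at h4
  rw [← f.range_fiberι x, ← Set.image_univ]
  exact h4.image _

theorem step (hP : HasHyp P) (f : V ⟶ U) [IsProper f] [LocallyOfFinitePresentation f] (g : V ⟶ P) (x : U)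
    (haff : IsAffineHom (f.fiberι x ≫ g)) (hflat : ∀ v : V, f v = x → (f.stalkMap v).hom.Flat)
    (hinf : ¬ (f ⁻¹' {x}).Finite) :
    ∃ J : P.IdealSheafData,
      (∀ y : P, ∃ (A : P.affineOpens) (c : Γ(P, A.1)), y ∈ A.1 ∧ J.ideal A = Ideal.span {c}) ∧
      (∀ v' : ↥(pullback g J.subschemeι), f (pullback.fst g J.subschemeι v') = x →
        ((pullback.fst g J.subschemeι ≫ f).stalkMap v').hom.Flat) ∧
      (∃ v : V, f v = x ∧ g v ∈ J.support) ∧ (∃ v : V, f v = x ∧ g v ∉ J.support) := by
  have h1 : IsProper (f.fiberToSpecResidueField x) := MorphismProperty.pullback_snd _ _ inferInstance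
  have hN : IsLocallyNoetherian (f.fiber x) := LocallyOfFiniteType.isLocallyNoetherian (f.fiberToSpecResidueField x)
  have hC : CompactSpace (f.fiber x) := QuasiCompact.compactSpace_of_compactSpace (f.fiberToSpecResidueField x)
  have hNo : IsNoetherian (f.fiber x) := { }
  obtain ⟨A₀, hA₀, hass⟩ := exists_finite_ass (f.fiber x)
  obtain ⟨J, hJ, D, hD, hZD, hsupp⟩ := hP ((f.fiberι x ≫ g) '' A₀) (hA₀.image _)
  refine ⟨J, hJ, ?_, ?_, ?_⟩
  · intro v' hv'
    obtain ⟨A, c, hA, hc⟩ := hJ (g (pullback.fst g J.subschemeι v'))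
    refine flat_slice f g J (pullback.fst g J.subschemeι) ?_ v' (hflat _ hv') A c hA hc ?_
    · rw [Scheme.IdealSheafData.ker_fst_of_isClosedImmersion, Scheme.IdealSheafData.ker_subschemeι]
    · have key : ∀ (v : V) (_ : f v = x) (hA : g v ∈ A.1),
          ∀ b, g.stalkMap v (P.presheaf.germ A.1 _ hA c) * b ∈ CycB.FiberStalk.fibIdeal f v →
            b ∈ CycB.FiberStalk.fibIdeal f v := by
        intro v hv hA
        obtain ⟨z, rfl⟩ : v ∈ Set.range (f.fiberι x) := by rw [f.range_fiberι]; exact hv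
        apply regular_at f g x A c z hA
        by_contra hcon
        obtain ⟨w, hw, hwA, hwc⟩ := hass _ _ z hA hcon
        have h2 : (f.fiberι x ≫ g) w ∉ J.support := by
          rw [hsupp, not_not]
          exact hZD ⟨w, hw, rfl⟩
        rw [notMem_support_iff J hc hwA] at h2
        apply hwc
        rw [← Scheme.preimage_basicOpen]
        exact h2
      exact key _ hv' hA
  · by_contra hcon
    push Not at hcon
    have h2 : (f.fiberι x ≫ g) ⁻¹ᵁ D = ⊤ := by
      rw [eq_top_iff]
      intro z _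
      have h3 : f (f.fiberι x z) = x := by
        have : f.fiberι x z ∈ f ⁻¹' {x} := by rw [← f.range_fiberι x]; exact ⟨z, rfl⟩
        exact this
      have h4 := hcon _ h3
      rw [hsupp, not_not] at h4
      exact h4
    have h5 : IsAffineOpen ((f.fiberι x ≫ g) ⁻¹ᵁ D) := hD.preimage _
    rw [h2] at h5
    have h6 : IsAffine (f.fiber x) := by
      have : IsAffine ((⊤ : (f.fiber x).Opens) : Scheme.{u}) := h5
      exact .of_isIso (f.fiber x).topIso.inv
    exact hinf (finite_preimage_of_isAffine f x)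
  · have hne : (f ⁻¹' {x}).Nonempty := by
      rw [Set.nonempty_iff_ne_empty]
      intro h
      rw [h] at hinf
      exact hinf Set.finite_empty
    rw [← f.range_fiberι x] at hne
    obtain ⟨_, t, rfl⟩ := hne
    obtain ⟨w, hw, -, -⟩ := hass ⊤ 0 t trivial (by
      rw [map_zero]
      exact zero_notMem_nonZeroDivisors)
    refine ⟨f.fiberι x w, ?_, ?_⟩
    · have : f.fiberι x w ∈ f ⁻¹' {x} := by rw [← f.range_fiberι x]; exact ⟨w, rfl⟩
      exact this
    · have h2 : (f.fiberι x ≫ g) w ∉ J.support := by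
        rw [hsupp, not_not]
        exact hZD ⟨w, hw, rfl⟩
      exact h2

end Groth.Agent.GrpQ.H770.SliceStep
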